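import Cfsg.Agent.H98.JFour.NonzShape

/-!
# A simple group of Janko-four type has two classes of involutions
-/

set_option autoImplicit false

namespace Cfsg.Agent.H95.J4Bridge

open H43.JFour H98.JFour

/-- Two classes of involutions. -/
theorem two_classes {G : Type*} [Group G] [Finite G] [IsSimpleGroup G] (hG : ¬ IsMulCommutative G)
    {z : G} (hJ : Cfsg.IsOfJankoFourTypeAt z) :
    ∃ x y : G, orderOf x = 2 ∧ orderOf y = 2 ∧ ¬ IsConj x y ∧
      ∀ w : G, orderOf w = 2 → IsConj w x ∨ IsConj w y := by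
  obtain ⟨c, W, W', a, b, u, rfl, -, hti, h, -, -, hF⟩ := exists_full_setup hG hJ
  obtain ⟨s, hs⟩ := Set.nonempty_of_ncard_ne_zero (s := h.fib h.rest 1)
    (by rw [(h.rest_A7 hF).1]; norm_num)
  have hsV : s ∈ h.V := h.rest_inv.sub hs.1
  have hs1 : s ≠ 1 := hs.1.1.2
  have hsz : ¬ IsConj c.z s := fun e => hs.1.2 (h.fusion hsV e)
  have hs2 : orderOf s = 2 := orderOf_eq_prime (h.elem_V.2 s hsV) hs1
  refine ⟨c.z, s, h.hc.ord, hs2, hsz, fun w hw => ?_⟩
  by_cases hwz : IsConj c.z w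
  · exact Or.inl hwz.symm
  · exact Or.inr (h.conj_of_not_z hF hti H98.JFour.outerInR_autM22 hG hw hwz hsV hs1 hsz)

end Cfsg.Agent.H95.J4Bridge
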