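import Cfsg.Agent.H95.J4Bridge.Main
import Cfsg.Agent.S1265
import Cfsg.Prelude.Def_MonsterType

/-!
# The hypotheses of the characterisations by the involution centraliser give the setting
-/

set_option autoImplicit false

namespace Cfsg.Agent.H95.J4Bridge

open Subgroup
open scoped commutatorElement

universe u

variable {G : Type u} [Group G] [Finite G] {t : G}

theorem card_mulAut : Nat.card (MulAut ↥Spor.M22) = 887040 := H85.AutM22.autData.card

theorem finite_mulAut : Finite (MulAut ↥Spor.M22) :=
  Finite.of_injective _ DFunLike.coe_injective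

theorem index_inn : inn.index = 2 := H85.AutM22.autData.index

theorem comm_inn : ⁅inn, inn⁆ = inn := by
  refine le_antisymm (commutator_le.2 fun a ha b hb => by
    rw [commutatorElement_def]
    exact mul_mem (mul_mem (mul_mem ha hb) (inv_mem ha)) (inv_mem hb)) ?_
  haveI := Setting.simple_inn
  rcases IsSimpleGroup.eq_bot_or_eq_top_of_normal (commutator ↥inn) inferInstance with h | h
  · exfalso
    refine H85.AutM22.autData.noncomm ⟨⟨fun a b => ?_⟩⟩
    have : ⁅a, b⁆ ∈ commutator ↥inn := by
      rw [_root_.commutator_def]; exact commutator_mem_commutator (mem_top a) (mem_top b)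
    rw [h, mem_bot] at this
    exact commutatorElement_eq_one_iff_mul_comm.1 this
  · have := congrArg (Subgroup.map inn.subtype) h
    rw [map_subtype_commutator, ← MonoidHom.range_eq_map, range_subtype] at this
    exact this.ge

section Explicit

variable (Q N M : Subgroup ↥(centralizer ({t} : Set G))) [Q.Normal] [N.Normal] [M.Normal]

/-- The action of the centraliser on `M / N`. -/
noncomputable def quotAct : ↥(centralizer ({t} : Set G)) →* MulAut (↥M ⧸ N.subgroupOf M) where
  toFun c := QuotientGroup.congr (N.subgroupOf M) (N.subgroupOf M) (MulAut.conjNormal c) (by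
    ext x
    refine (Subgroup.mem_map_equiv (f := (MulAut.conjNormal c : MulAut ↥M)) (K := N.subgroupOf M)).trans ?_
    rw [mem_subgroupOf, mem_subgroupOf]
    rw [show (((MulAut.conjNormal c).symm x : ↥M) : ↥(centralizer ({t} : Set G))) = c⁻¹ * x * c from
      MulAut.conjNormal_symm_apply c x]
    exact ⟨fun h => by simpa [mul_assoc] using (inferInstance : N.Normal).conj_mem _ h c,
      fun h => (inferInstance : N.Normal).conj_mem' _ h c⟩)
  map_one' := MulEquiv.ext fun x => by
    obtain ⟨x, rfl⟩ := QuotientGroup.mk_surjective x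
    show QuotientGroup.mk (MulAut.conjNormal (1 : ↥(centralizer ({t} : Set G))) x) = _
    rw [map_one]; rfl
  map_mul' c d := MulEquiv.ext fun x => by
    obtain ⟨x, rfl⟩ := QuotientGroup.mk_surjective x
    show QuotientGroup.mk (MulAut.conjNormal (c * d) x) =
      QuotientGroup.mk (MulAut.conjNormal c (MulAut.conjNormal d x))
    rw [map_mul]; rfl

theorem quotAct_eq_one {c : ↥(centralizer ({t} : Set G))} :
    quotAct N M c = 1 ↔ ∀ m ∈ M, c * m * c⁻¹ * m⁻¹ ∈ N := by
  constructor
  · intro h m hm
    have h1 := DFunLike.congr_fun h (QuotientGroup.mk ⟨m, hm⟩)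
    change QuotientGroup.mk (MulAut.conjNormal c (⟨m, hm⟩ : ↥M)) = (QuotientGroup.mk ⟨m, hm⟩ : ↥M ⧸ _) at h1
    have h2 := QuotientGroup.eq.1 h1.symm
    rw [mem_subgroupOf] at h2
    have h3 := (inferInstance : N.Normal).conj_mem _ h2 m
    simpa [MulAut.conjNormal_apply, mul_assoc] using h3
  · intro h
    refine MulEquiv.ext fun x => ?_
    obtain ⟨⟨m, hm⟩, rfl⟩ := QuotientGroup.mk_surjective x
    show QuotientGroup.mk (MulAut.conjNormal c (⟨m, hm⟩ : ↥M)) = _
    refine (QuotientGroup.eq.2 ?_).symm
    rw [mem_subgroupOf]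
    have h3 := (inferInstance : N.Normal).conj_mem' _ (h m hm) m
    simpa [MulAut.conjNormal_apply, mul_assoc] using h3

/-- The hypotheses of the order and uniqueness statements give Janko-four type. -/
theorem typeAt_of_explicit (ht : orderOf t = 2) (hQN : Q ≤ N) (hNM : N ≤ M) (hM : M.index = 2)
    (hQ : Cfsg.IsExtraspecial 2 Q) (hcard : Nat.card Q = 2 ^ 13) (hN : Nat.card N = 3 * Nat.card Q)
    (hcent : ⁅M, N⁆ ≤ Q) (hperf : M ≤ ⁅M, M⁆ ⊔ Q)
    (h2c : centralizer (Q : Set (centralizer ({t} : Set G))) ≤ Q)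
    (hout : ∀ c : centralizer ({t} : Set G), (∀ m ∈ M, c * m * c⁻¹ * m⁻¹ ∈ N) → c ∈ M)
    (hM22 : Cfsg.Spor.IsoM22 (M ⧸ N.subgroupOf M)) : Cfsg.IsOfJankoFourTypeAt t := by
  obtain ⟨e⟩ := hM22
  let π : ↥(centralizer ({t} : Set G)) →* MulAut ↥Spor.M22 :=
    (MulAut.congr e).toMonoidHom.comp (quotAct N M)
  have hπ : ∀ c, π c = 1 ↔ ∀ m ∈ M, c * m * c⁻¹ * m⁻¹ ∈ N := fun c => by
    rw [← quotAct_eq_one]
    exact (MulAut.congr e).map_eq_one_iff
  have hker : π.ker = N := by
    ext c
    rw [MonoidHom.mem_ker, hπ]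
    constructor
    · intro h
      have hcM := hout c h
      have hc : e (QuotientGroup.mk ⟨c, hcM⟩) ∈ center ↥Spor.M22 := mem_center_iff.2 fun y => by
        obtain ⟨⟨m, hm⟩, hy⟩ := QuotientGroup.mk_surjective (e.symm y)
        rw [← e.apply_symm_apply y, ← hy, ← map_mul, ← map_mul]
        congr 1
        refine (QuotientGroup.eq (s := N.subgroupOf M)).2 ?_
        rw [mem_subgroupOf]
        have := (inferInstance : N.Normal).conj_mem' _ (h m hm) (m * c)
        simpa [mul_assoc] using this
      have hz : center ↥Spor.M22 = ⊥ := by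
        rw [eq_bot_iff]
        intro z hz
        refine mem_bot.2 (Setting.conj_injective ?_)
        rw [map_one]
        refine MulEquiv.ext fun y => ?_
        rw [MulAut.conj_apply, ← mem_center_iff.1 hz y, mul_inv_cancel_right]; rfl
      rw [hz, mem_bot, e.map_eq_one_iff] at hc
      exact mem_subgroupOf.1 ((QuotientGroup.eq_one_iff (⟨c, hcM⟩ : ↥M)).1 hc)
    · intro h m hm
      have := mul_mem h ((inferInstance : N.Normal).conj_mem _ (inv_mem h) m)
      simpa [mul_assoc] using this
  have hidx : N.index = 887040 := by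
    have h1 : (N.subgroupOf M).index = 443520 := by
      rw [Subgroup.index, Nat.card_congr e.toEquiv, Golay.card_spor_M22]
    have h2 := Subgroup.relIndex_mul_index hNM
    rw [Subgroup.relIndex, h1, hM] at h2
    exact h2.symm
  haveI := finite_mulAut
  have hsurj : Function.Surjective π := by
    rw [← MonoidHom.range_eq_top]
    refine Subgroup.eq_top_of_card_eq _ ?_
    rw [← Subgroup.index_ker, hker, hidx, card_mulAut]
  have hle : M ≤ inn.comap π := fun c hc => by
    refine ⟨e (QuotientGroup.mk ⟨c, hc⟩), MulEquiv.ext fun y => ?_⟩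
    obtain ⟨⟨m, hm⟩, hy⟩ := QuotientGroup.mk_surjective (e.symm y)
    rw [← e.apply_symm_apply y, ← hy]
    show e (QuotientGroup.mk ⟨c, hc⟩) * e (QuotientGroup.mk ⟨m, hm⟩) * (e (QuotientGroup.mk ⟨c, hc⟩))⁻¹ =
      e (quotAct N M c (e.symm (e (QuotientGroup.mk ⟨m, hm⟩))))
    rw [e.symm_apply_apply, ← map_mul, ← map_inv, ← map_mul]
    rfl
  have hcomap : inn.comap π = M := by
    refine (Subgroup.eq_of_le_of_card_ge hle ?_).symm
    have h1 := (inn.comap π).card_mul_index
    have h2 := M.card_mul_index
    rw [index_comap_of_surjective _ hsurj, index_inn] at h1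
    rw [hM, ← h1] at h2
    omega
  exact Setting.isOfJankoFourTypeAt
    { Q := Q, N := N, M := M, π := π, ord := ht, nQ := inferInstance, nN := inferInstance, hQN := hQN,
      extra := hQ, cardQ := hcard, cardN := hN, self := h2c, surj := hsurj, ker := hker, comapM := hcomap,
      perf := hperf, cent := hcent }

end Explicit

section NonSplit

variable (Q N : Subgroup ↥(centralizer ({t} : Set G))) [Q.Normal] [N.Normal]

/-- The extraspecial centraliser with quotient an extension of `3` by `Aut M22` which is non-split gives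
Janko-four type. -/
theorem typeAt_of_nonsplit (hS : Cfsg.IsExtraspecialCentralizerSetting t Q 6) (hQN : Q ≤ N)
    (hN3 : Nat.card ↥N = 3 * Nat.card ↥Q)
    (hns : ∀ K : Subgroup ↥(centralizer ({t} : Set G)), K ⊓ N = Q → K ⊔ N = ⊤ → False)
    (hAut : Nonempty (↥(centralizer ({t} : Set G)) ⧸ N ≃* MulAut ↥Cfsg.Spor.M22)) :
    Cfsg.IsOfJankoFourTypeAt t := by
  classical
  obtain ⟨ht, hF, hQ, hcard, -⟩ := hS
  obtain ⟨e⟩ := hAut
  haveI := finite_mulAut
  haveI : Fact (Nat.Prime 2) := ⟨Nat.prime_two⟩
  let π : ↥(centralizer ({t} : Set G)) →* MulAut ↥Spor.M22 := e.toMonoidHom.comp (QuotientGroup.mk' N)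
  have hsurj : Function.Surjective π := e.surjective.comp (QuotientGroup.mk'_surjective N)
  have hker : π.ker = N := by
    ext c
    rw [MonoidHom.mem_ker]
    show e (QuotientGroup.mk' N c) = 1 ↔ _
    rw [e.map_eq_one_iff, QuotientGroup.mk'_apply, QuotientGroup.eq_one_iff]
  haveI : inn.Normal := Subgroup.normal_of_index_eq_two index_inn
  set M := inn.comap π with hMdef
  haveI : M.Normal := Subgroup.Normal.comap inferInstance π
  have hmap : ∀ H : Subgroup ↥(centralizer ({t} : Set G)), inn ≤ H.map π → M ≤ H ⊔ N := by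
    intro H hH
    rw [← hker, ← comap_map_eq]
    exact comap_mono hH
  have hmapM : M.map π = inn := map_comap_eq_self_of_surjective hsurj _
  have hNM : N ≤ M := fun c hc => by
    rw [hMdef, mem_comap, MonoidHom.mem_ker.1 (hker.ge hc)]
    exact one_mem _
  have hder : inn ≤ (⁅M, M⁆).map π := by rw [map_commutator, hmapM, comm_inn]
  have hcent : ⁅M, N⁆ ≤ Q := by
    have h3 : Nat.card (↥N ⧸ Q.subgroupOf N) = 3 := by
      have := (Q.subgroupOf N).card_mul_index
      rw [Nat.card_congr (subgroupOfEquivOfLe hQN).toEquiv, hN3] at this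
      rw [← Subgroup.index]
      exact Nat.eq_of_mul_eq_mul_left Nat.card_pos (this.trans (mul_comm _ _))
    haveI : Fact (Nat.Prime 3) := ⟨Nat.prime_three⟩
    haveI := isCyclic_of_prime_card h3
    let θ : ↥(centralizer ({t} : Set G)) →* MulAut (↥N ⧸ Q.subgroupOf N) := quotAct Q N
    have hab : ∀ a b : MulAut (↥N ⧸ Q.subgroupOf N), a * b = b * a := fun a b => MulEquiv.ext fun x => by
      obtain ⟨i, hi⟩ := MonoidHom.map_cyclic a.toMonoidHom
      obtain ⟨j, hj⟩ := MonoidHom.map_cyclic b.toMonoidHom
      have hi' : ∀ y, a y = y ^ i := hi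
      have hj' : ∀ y, b y = y ^ j := hj
      simp only [MulAut.mul_apply, hi', hj', ← zpow_mul, mul_comm i j]
    have h1 : ⁅M, M⁆ ≤ θ.ker := commutator_le.2 fun a _ b _ => by
      rw [MonoidHom.mem_ker, map_commutatorElement]
      exact commutatorElement_eq_one_iff_mul_comm.2 (hab _ _)
    have h2 : N ≤ θ.ker := fun n hn => by
      rw [MonoidHom.mem_ker, quotAct_eq_one]
      intro m hm
      letI : CommGroup (↥N ⧸ Q.subgroupOf N) := IsCyclic.commGroup
      have hc := mul_comm (QuotientGroup.mk' (Q.subgroupOf N) ⟨n, hn⟩)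
        (QuotientGroup.mk' (Q.subgroupOf N) ⟨m, hm⟩)
      rw [← map_mul, ← map_mul] at hc
      have hd := (QuotientGroup.eq (s := Q.subgroupOf N)).1 hc.symm
      rw [mem_subgroupOf] at hd
      have := (inferInstance : Q.Normal).conj_mem _ hd (m * n)
      simpa [mul_assoc] using this
    refine commutator_le.2 fun c hc n hn => ?_
    have hcθ : c ∈ θ.ker := (sup_le h1 h2) (hmap _ hder hc)
    rw [commutatorElement_def]
    exact (quotAct_eq_one Q N).1 (MonoidHom.mem_ker.1 hcθ) n hn
  have hperf : M ≤ ⁅M, M⁆ ⊔ Q := by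
    set D := ⁅M, M⁆ ⊔ Q with hD
    have hDN : M ≤ D ⊔ N := (hmap _ hder).trans (sup_le_sup_right le_sup_left _)
    by_contra hne
    have hND : ¬ N ≤ D := fun h => hne (hDN.trans (sup_le le_rfl h))
    have hDNQ : D ⊓ N = Q := by
      refine (Subgroup.eq_of_le_of_card_ge (le_inf le_sup_right hQN) ?_).symm
      have hd1 := Subgroup.card_dvd_of_le (inf_le_right : D ⊓ N ≤ N)
      obtain ⟨m, hm⟩ := Subgroup.card_dvd_of_le (le_inf le_sup_right hQN : Q ≤ D ⊓ N)
      rw [hm, hN3, mul_comm 3] at hd1
      rw [hm]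
      rcases (Nat.dvd_prime Nat.prime_three).1 (Nat.dvd_of_mul_dvd_mul_left Nat.card_pos hd1) with h | h
      · rw [h, mul_one]
      · exfalso
        refine hND (inf_eq_right.1 (Subgroup.eq_of_le_of_card_ge (inf_le_right : D ⊓ N ≤ N) ?_))
        rw [hN3, hm, h, mul_comm]
    haveI : D.Normal := inferInstance
    obtain ⟨T⟩ := (inferInstance : Nonempty (Sylow 2 ↥(centralizer ({t} : Set G))))
    refine hns (D ⊔ T) ?_ ?_
    · refine le_antisymm ?_ (le_inf ((le_sup_right : Q ≤ D).trans le_sup_left) hQN)
      rintro x ⟨hx, hxN⟩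
      have hxD : x ∈ D := by
        rw [← QuotientGroup.eq_one_iff, ← orderOf_eq_one_iff]
        have h2 : ∃ k, orderOf (x : ↥(centralizer ({t} : Set G)) ⧸ D) = 2 ^ k := by
          obtain ⟨a, ha, b, hb, rfl⟩ := mem_sup_of_normal_left.1 hx
          rw [QuotientGroup.mk_mul, (QuotientGroup.eq_one_iff a).2 ha, one_mul]
          obtain ⟨k, hk⟩ := T.isPGroup' ⟨b, hb⟩
          have hb' : (b : ↥(centralizer ({t} : Set G)) ⧸ D) ^ 2 ^ k = 1 := by
            rw [← QuotientGroup.mk_pow, show b ^ 2 ^ k = 1 from congrArg Subtype.val hk]; rfl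
          obtain ⟨j, -, hj⟩ := (Nat.dvd_prime_pow Nat.prime_two).1 (orderOf_dvd_of_pow_eq_one hb')
          exact ⟨j, hj⟩
        have h3 : orderOf (x : ↥(centralizer ({t} : Set G)) ⧸ D) ∣ 3 := by
          refine orderOf_dvd_of_pow_eq_one ?_
          rw [← QuotientGroup.mk_pow, QuotientGroup.eq_one_iff]
          have h4 : (⟨x, hxN⟩ : ↥N) ^ (Q.subgroupOf N).index ∈ Q.subgroupOf N :=
            Subgroup.pow_index_mem _ _
          have hi : (Q.subgroupOf N).index = 3 := by
            have := (Q.subgroupOf N).card_mul_index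
            rw [Nat.card_congr (subgroupOfEquivOfLe hQN).toEquiv, hN3] at this
            exact Nat.eq_of_mul_eq_mul_left Nat.card_pos (this.trans (mul_comm _ _))
          rw [hi, mem_subgroupOf] at h4
          exact (le_sup_right : Q ≤ D) h4
        obtain ⟨k, hk⟩ := h2
        rw [hk] at h3 ⊢
        rcases (Nat.dvd_prime Nat.prime_three).1 h3 with h | h
        · exact h
        · exfalso
          rcases k with _ | k
          · norm_num at h
          · rw [pow_succ] at h
            omega
      exact hDNQ.le ⟨hxD, hxN⟩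
    · rw [eq_top_iff]
      intro c _
      have htop : (D ⊔ (T : Subgroup _)).map π = ⊤ := by
        have h1 : inn ≤ (D ⊔ (T : Subgroup _)).map π :=
          hder.trans (map_mono (le_sup_left.trans le_sup_left))
        have h2 : ¬ (T : Subgroup ↥(centralizer ({t} : Set G))).map π ≤ inn := by
          intro hle
          have hd := Subgroup.index_dvd_of_le hle
          rw [index_inn] at hd
          have hodd := T.not_dvd_index
          exact hodd (hd.trans (Subgroup.index_map_dvd _ hsurj))
        obtain ⟨x, hx, hxi⟩ := SetLike.not_le_iff_exists.1 h2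
        refine eq_top_iff.2 fun y _ => ?_
        by_cases hy : y ∈ inn
        · exact h1 hy
        · have := h1 ((Subgroup.mul_mem_iff_of_index_two index_inn).2 (iff_of_false hy hxi) : y * x ∈ inn)
          have hx' : x ∈ (D ⊔ (T : Subgroup _)).map π := map_mono le_sup_right hx
          simpa using mul_mem this (inv_mem hx')
      rw [← hker, ← comap_map_eq, htop]
      exact mem_top _
  have h2c : centralizer (Q : Set (centralizer ({t} : Set G))) ≤ Q := by
    rw [← hF]; exact S1265.result
  exact Setting.isOfJankoFourTypeAt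
    { Q := Q, N := N, M := M, π := π, ord := ht, nQ := inferInstance, nN := inferInstance, hQN := hQN,
      extra := hQ, cardQ := by rw [hcard], cardN := hN3, self := h2c, surj := hsurj, ker := hker,
      comapM := hMdef.symm, perf := hperf, cent := hcent }

end NonSplit

end Cfsg.Agent.H95.J4Bridge
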