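import Cfsg.Agent.H43.J4.ThreeSylow
import Cfsg.Agent.H43.J4.Pieces

/-!
# A central extension by three cannot carry a reflection of the Sylow 3-subgroup
-/

set_option autoImplicit false

namespace Cfsg.Agent.H95.J4Bridge

open Subgroup
open scoped commutatorElement

/-- If `p` is central of order 3 and lies in the derived group of `X`, while `X / ⟨p⟩` has a Sylow 3-subgroup
`⟨x, y⟩` of order 9 and an element fixing `x` and inverting `y`, we have a contradiction: lifts of `x, y`
would commute and the transfer to the abelian Sylow 3-subgroup would kill `p`. -/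
theorem false_of_reflection {X A : Type*} [Group X] [Finite X] [Group A] [Finite A] (π : X →* A)
    (hπ : Function.Surjective π) (p : X) (hker : π.ker = zpowers p) (hp3 : p ^ 3 = 1) (hp1 : p ≠ 1)
    (hcen : p ∈ center X) (hcomm : p ∈ commutator X) (hA : ¬ 27 ∣ Nat.card A) (x y g : A)
    (hx : x ^ 3 = 1) (hy : y ^ 3 = 1) (hxy : Commute x y) (hne : y ∉ zpowers x) (hx1 : x ≠ 1)
    (hgx : g * x * g⁻¹ = x) (hgy : g * y * g⁻¹ = y⁻¹) : False := by
  obtain ⟨a, rfl⟩ := hπ x
  obtain ⟨b, rfl⟩ := hπ y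
  obtain ⟨h, rfl⟩ := hπ g
  have hker_central : ∀ {z : X}, π z = 1 → z ∈ center X := fun {z} hz => by
    have : z ∈ zpowers p := hker ▸ MonoidHom.mem_ker.2 hz
    exact (zpowers_le.2 hcen) this
  -- the commutator of the lifts
  set c := ⁅a, b⁆ with hc
  have hc1 : π c = 1 := by rw [hc, map_commutatorElement]; exact commutatorElement_eq_one_iff_commute.2 hxy
  have hcz := hker_central hc1
  have hc3 : c ^ 3 = 1 := by
    have : c ∈ zpowers p := hker ▸ MonoidHom.mem_ker.2 hc1
    obtain ⟨k, hk⟩ := mem_zpowers_iff.1 this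
    rw [← hk, ← zpow_natCast, ← zpow_mul, mul_comm, zpow_mul, zpow_natCast, hp3, one_zpow]
  obtain ⟨z₁, hz₁, e₁⟩ : ∃ z₁ ∈ center X, h * a * h⁻¹ = a * z₁ := by
    refine ⟨a⁻¹ * (h * a * h⁻¹), hker_central ?_, by group⟩
    simp only [map_mul, map_inv, hgx, inv_mul_cancel]
  obtain ⟨z₂, hz₂, e₂⟩ : ∃ z₂ ∈ center X, h * b * h⁻¹ = b⁻¹ * z₂ := by
    refine ⟨b * (h * b * h⁻¹), hker_central ?_, by group⟩
    simp only [map_mul, map_inv, hgy, mul_inv_cancel]
  have hcinv : c = c⁻¹ := by
    have k1 : h * c * h⁻¹ = c := by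
      rw [mem_center_iff.1 hcz h, mul_inv_cancel_right]
    have k2 : h * c * h⁻¹ = ⁅a * z₁, b⁻¹ * z₂⁆ := by
      rw [← e₁, ← e₂, hc, ← MulAut.conj_apply, map_commutatorElement]
      rfl
    have k3 : ⁅a * z₁, b⁻¹ * z₂⁆ = ⁅a, b⁻¹⁆ := by
      have q₁ : ∀ w, z₁ * w = w * z₁ := fun w => (mem_center_iff.1 hz₁ w).symm
      have q₂ : ∀ w, z₂ * w = w * z₂ := fun w => (mem_center_iff.1 hz₂ w).symm
      simp only [commutatorElement_def, mul_inv_rev]
      calc a * z₁ * (b⁻¹ * z₂) * (z₁⁻¹ * a⁻¹) * (z₂⁻¹ * b⁻¹⁻¹)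
          = a * (z₁ * (b⁻¹ * z₂)) * z₁⁻¹ * a⁻¹ * z₂⁻¹ * b⁻¹⁻¹ := by group
        _ = a * b⁻¹ * (z₂ * a⁻¹) * z₂⁻¹ * b⁻¹⁻¹ := by rw [q₁]; group
        _ = a * b⁻¹ * a⁻¹ * b⁻¹⁻¹ := by rw [q₂]; group
    have k4 : ⁅a, b⁻¹⁆ = b⁻¹ * c⁻¹ * b := by rw [hc]; simp only [commutatorElement_def]; group
    rw [k2, k3, k4, mul_assoc, ← mem_center_iff.1 (inv_mem hcz) b] at k1
    rw [inv_mul_cancel_left] at k1
    exact k1.symm
  have hc0 : c = 1 := by
    have h2 : c ^ 2 = 1 := by rw [sq]; nth_rewrite 2 [hcinv]; exact mul_inv_cancel c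
    calc c = c ^ 3 * (c ^ 2)⁻¹ := by group
      _ = 1 := by rw [hc3, h2]; group
  have hab : Commute a b := commutatorElement_eq_one_iff_commute.1 hc0
  -- an abelian subgroup of index prime to three
  let S : Subgroup X := closure {a, b, p}
  have hSab : ∀ u ∈ S, ∀ v ∈ S, u * v = v * u := by
    have hpw : ∀ u ∈ ({a, b, p} : Set X), ∀ v ∈ ({a, b, p} : Set X), u * v = v * u := by
      have hp' : ∀ w, w * p = p * w := fun w => mem_center_iff.1 hcen w
      intro u hu v hv
      simp only [Set.mem_insert_iff, Set.mem_singleton_iff] at hu hv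
      rcases hu with rfl | rfl | rfl <;> rcases hv with rfl | rfl | rfl
      all_goals first
        | rfl
        | exact hab.eq
        | exact hab.eq.symm
        | exact hp' _
        | exact (hp' _).symm
    have := isMulCommutative_closure hpw
    intro u hu v hv
    exact congrArg Subtype.val (this.is_comm.comm ⟨u, hu⟩ ⟨v, hv⟩)
  have hidx : ¬ 3 ∣ S.index := by
    haveI : Fact (Nat.Prime 3) := ⟨Nat.prime_three⟩
    have hk : π.ker ≤ S := hker ▸ zpowers_le.2 (subset_closure (by simp))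
    have hi : S.index = (S.map π).index :=
      (Subgroup.index_map_eq (H := S) hπ hk).symm
    have ha : π a ∈ S.map π := ⟨a, subset_closure (by simp), rfl⟩
    have hb : π b ∈ S.map π := ⟨b, subset_closure (by simp), rfl⟩
    have h9 : 9 ∣ Nat.card (S.map π) := by
      have hox : Nat.card (zpowers (π a)) = 3 := by
        rw [Nat.card_zpowers, orderOf_eq_prime hx hx1]
      have hy1 : π b ≠ 1 := fun e => hne (e ▸ one_mem _)
      have hoy : Nat.card (zpowers (π b)) = 3 := by
        rw [Nat.card_zpowers, orderOf_eq_prime hy hy1]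
      have hinf : zpowers (π a) ⊓ zpowers (π b) = ⊥ := by
        by_contra hne'
        have hd := Subgroup.card_dvd_of_le (inf_le_right : zpowers (π a) ⊓ zpowers (π b) ≤ zpowers (π b))
        rw [hoy, Nat.dvd_prime Nat.prime_three] at hd
        rcases hd with e | e
        · exact hne' (eq_bot_of_card_eq _ e)
        · have := Subgroup.eq_of_le_of_card_ge (inf_le_right : zpowers (π a) ⊓ zpowers (π b) ≤ zpowers (π b))
            (by rw [e, hoy])
          exact hne (inf_eq_right.1 this (mem_zpowers _))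
      have hsup := H43.JFour.card_sup_of_commute (zpowers (π a)) (zpowers (π b)) fun u hu v hv => by
        obtain ⟨i, rfl⟩ := mem_zpowers_iff.1 hu
        obtain ⟨j, rfl⟩ := mem_zpowers_iff.1 hv
        exact hxy.zpow_zpow i j
      rw [hinf, hox, hoy, Subgroup.card_bot, mul_one] at hsup
      have hle : zpowers (π a) ⊔ zpowers (π b) ≤ S.map π := sup_le (zpowers_le.2 ha) (zpowers_le.2 hb)
      have hd := Subgroup.card_dvd_of_le hle
      rw [hsup] at hd
      exact hd
    rw [hi]
    intro h3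
    have := Nat.mul_dvd_mul h9 h3
    rw [Subgroup.card_mul_index] at this
    exact hA this
  exact hp1 (H43.JFour.eq_one_of_transfer S hSab hidx hcen hcomm hp3)

end Cfsg.Agent.H95.J4Bridge
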