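import Cfsg.Agent.H85.JFour.AutM22.Main

/-!
# An element of `Aut M22` fixing one and inverting the other generator of a Sylow 3-subgroup
-/

set_option autoImplicit false

namespace Cfsg.Agent.H95.J4Bridge

open Cfsg Cfsg.Agent.H85.AutM22 Cfsg.Agent.Golay Cfsg.Agent.H94.M24

lemma reflection_table :
    (pFix.any fun c => threeList.any fun t =>
      carries c t3 t3 && carries c t (powT 2 t) &&
        !([idTblVal, t3, powT 2 t3].contains t)) = true := by
  decide +kernel

/-- Three elements `x, y, g` of `Aut M22`: `x, y` span a subgroup of order 9, `g` fixes `x` and inverts `y`. -/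
theorem exists_reflection :
    ∃ x y g : MulAut ↥Spor.M22, x ≠ 1 ∧ x ^ 3 = 1 ∧ y ^ 3 = 1 ∧ Commute x y ∧
      y ∉ Subgroup.zpowers x ∧ g * x * g⁻¹ = x ∧ g * y * g⁻¹ = y⁻¹ := by
  have h := reflection_table
  simp only [List.any_eq_true, Bool.and_eq_true, Bool.not_eq_true'] at h
  obtain ⟨c, hc, t, ht, ⟨h1, h2⟩, h3⟩ := h
  have gc := (pFix_facts hc).1
  have g3 := good_t3_y3.1
  have gt := good_threeList ht
  rw [gc.carries_iff g3 g3] at h1
  rw [gc.carries_iff gt (gt.pow 2).1, (gt.pow 2).2] at h2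
  have c3 : el t3 ^ 3 = 1 := three_cube threeList_facts.2.2.1
  have ct : el t ^ 3 = 1 := three_cube ht
  obtain ⟨i, j, -, hij⟩ := threeList_form ht
  have hty : Commute (el t3) (el y3) :=
    (g3.comm_iff good_t3_y3.2).1 (by decide +kernel : tblMul t3 y3 = tblMul y3 t3)
  have hcomm : Commute (el t3) (el t) := by
    rw [hij]
    exact ((Commute.refl _).pow_right i).mul_right (hty.pow_right j)
  have hne : el t ∉ Subgroup.zpowers (el t3) := by
    intro hm
    obtain ⟨k, hk⟩ := (isOfFinOrder_iff_pow_eq_one.2 ⟨3, by norm_num, c3⟩).mem_powers_iff_mem_zpowers.2 hm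
    simp only at hk
    have hk' : el t = el t3 ^ (k % 3) := by
      rw [← hk, show el t3 ^ k = el t3 ^ (k % 3) * (el t3 ^ 3) ^ (k / 3) by
        rw [← pow_mul, ← pow_add, Nat.mod_add_div], c3, one_pow, mul_one]
    have he : k % 3 = 0 ∨ k % 3 = 1 ∨ k % 3 = 2 := by omega
    have hin : t ∈ [idTblVal, t3, powT 2 t3] := by
      simp only [List.mem_cons, List.not_mem_nil, or_false]
      rcases he with e | e | e <;> rw [e] at hk'
      · exact Or.inl (gt.inj good_id (by rw [hk', pow_zero, el_id]))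
      · exact Or.inr (Or.inl (gt.inj g3 (by rw [hk', pow_one])))
      · exact Or.inr (Or.inr (gt.inj (g3.pow 2).1 (by rw [hk', (g3.pow 2).2])))
    rw [List.contains_iff_mem.2 hin] at h3
    exact absurd h3 (by decide)
  refine ⟨autEquiv (el t3), autEquiv (el t), autEquiv (el c), ?_, ?_, ?_, hcomm.map autEquiv, ?_, ?_, ?_⟩
  · rw [← autEquiv.map_one, Ne, autEquiv.injective.eq_iff, g3.el_eq_one]
    exact three_five.2.1
  · rw [← map_pow, c3, map_one]
  · rw [← map_pow, ct, map_one]
  · intro hm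
    obtain ⟨k, hk⟩ := Subgroup.mem_zpowers_iff.1 hm
    rw [← map_zpow] at hk
    exact hne (Subgroup.mem_zpowers_iff.2 ⟨k, autEquiv.injective hk⟩)
  · rw [← map_inv, ← map_mul, ← map_mul, h1]
  · rw [← map_inv, ← map_mul, ← map_mul, h2, ← map_inv]
    congr 1
    exact eq_inv_of_mul_eq_one_left (by rw [← pow_succ, ct])

end Cfsg.Agent.H95.J4Bridge
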