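import Cfsg.Agent.H95.J4Bridge.Fpf
import Cfsg.Agent.H95.J4Bridge.Central
import Cfsg.Agent.H95.J4Bridge.Witness
import Cfsg.Agent.H46.Extraspecial
import Cfsg.Agent.Cores.PCore
import Cfsg.Agent.Golay.Mathieu
import Cfsg.Prelude.Def_JankoFourType

/-!
# From an extraspecial centraliser with quotient `3.M22.2` to Janko-four type
-/

set_option autoImplicit false

namespace Cfsg.Agent.H95.J4Bridge

open Subgroup
open scoped commutatorElement

universe u

variable {G : Type u} [Group G] [Finite G]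

/-- The inner automorphisms of `M22`. -/
noncomputable abbrev inn : Subgroup (MulAut ↥Spor.M22) :=
  (MulAut.conj : ↥Spor.M22 →* MulAut ↥Spor.M22).range

/-- The setting: an extraspecial normal `Q` of order `2 ^ 13` in the centraliser of the involution `t`, a
normal `N` with `|N : Q| = 3` and the quotient by `N` identified with `Aut M22`; `M` is the inner part. -/
structure Setting (t : G) where
  Q : Subgroup (centralizer ({t} : Set G))
  N : Subgroup (centralizer ({t} : Set G))
  M : Subgroup (centralizer ({t} : Set G))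
  π : ↥(centralizer ({t} : Set G)) →* MulAut ↥Spor.M22
  ord : orderOf t = 2
  nQ : Q.Normal
  nN : N.Normal
  hQN : Q ≤ N
  extra : Cfsg.IsExtraspecial 2 ↥Q
  cardQ : Nat.card Q = 2 ^ 13
  cardN : Nat.card N = 3 * Nat.card Q
  self : centralizer (Q : Set (centralizer ({t} : Set G))) ≤ Q
  surj : Function.Surjective π
  ker : π.ker = N
  comapM : inn.comap π = M
  perf : M ≤ ⁅M, M⁆ ⊔ Q
  cent : ⁅M, N⁆ ≤ Q

namespace Setting

variable {t : G} (S : Setting t)

theorem isSimple_M22 : IsSimpleGroup ↥Spor.M22 := Golay.isSimpleGroup_spor_M22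

theorem conj_injective : Function.Injective (MulAut.conj : ↥Spor.M22 →* MulAut ↥Spor.M22) := by
  rw [← MonoidHom.ker_eq_bot_iff, eq_bot_iff]
  intro z hz
  have hm : z ∈ center ↥Spor.M22 := mem_center_iff.2 fun y => by
    have := DFunLike.congr_fun (MonoidHom.mem_ker.1 hz) y
    simp only [MulAut.conj_apply, MulAut.one_apply] at this
    calc y * z = (z * y * z⁻¹) * z := by rw [this]
      _ = z * y := by group
  haveI := isSimple_M22
  rcases (inferInstance : (center ↥Spor.M22).Normal).eq_bot_or_eq_top with h | h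
  · rw [h, mem_bot] at hm; exact mem_bot.2 hm
  · exfalso
    letI : CommGroup ↥Spor.M22 :=
      { (inferInstance : Group ↥Spor.M22) with
        mul_comm := fun a b => mem_center_iff.1 (h ▸ mem_top b : b ∈ center ↥Spor.M22) a }
    have hp : (Nat.card ↥Spor.M22).Prime := IsSimpleGroup.prime_card
    rw [Golay.card_spor_M22] at hp
    norm_num at hp

theorem card_inn : Nat.card inn = 443520 := by
  rw [← Nat.card_congr (MonoidHom.ofInjective conj_injective).toEquiv, Golay.card_spor_M22]

theorem simple_inn : IsSimpleGroup inn :=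
  (MonoidHom.ofInjective conj_injective).isSimpleGroup_congr.1 isSimple_M22

theorem card_N (S : Setting t) : Nat.card S.N = 3 * 2 ^ 13 := by rw [S.cardN, S.cardQ]

theorem N_le_M : S.N ≤ S.M := by
  intro n hn
  rw [← S.comapM, mem_comap, MonoidHom.mem_ker.1 (S.ker.ge hn)]
  exact one_mem _

/-- The involution, as an element of its centraliser. -/
def tt (_S : Setting t) : ↥(centralizer ({t} : Set G)) :=
  ⟨t, mem_centralizer_iff.2 fun x hx => by rw [Set.mem_singleton_iff.1 hx]⟩

theorem tt_comm (c : ↥(centralizer ({t} : Set G))) : c * S.tt = S.tt * c :=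
  Subtype.ext (mem_centralizer_iff.1 c.2 t rfl).symm

theorem tt_mem : S.tt ∈ S.Q :=
  S.self (mem_centralizer_iff.2 fun q _ => S.tt_comm q)

theorem orderOf_tt : orderOf S.tt = 2 := by
  rw [← orderOf_injective (centralizer ({t} : Set G)).subtype (subtype_injective _)]
  exact S.ord

theorem tt_normal : (zpowers S.tt).Normal := ⟨fun n hn c => by
  obtain ⟨k, rfl⟩ := mem_zpowers_iff.1 hn
  have hc : Commute c S.tt := S.tt_comm c
  rw [(hc.zpow_right k).eq, mul_inv_cancel_right]
  exact zpow_mem (mem_zpowers _) k⟩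

theorem center_Q : (center ↥S.Q).map S.Q.subtype = zpowers S.tt := by
  have hm : (⟨S.tt, S.tt_mem⟩ : ↥S.Q) ∈ center ↥S.Q :=
    mem_center_iff.2 fun q => Subtype.ext (S.tt_comm q)
  refine (Subgroup.eq_of_le_of_card_ge (zpowers_le.2 (Subgroup.mem_map.2 ⟨_, hm, rfl⟩)) ?_).symm
  rw [card_map_of_injective (subtype_injective _), S.extra.2, Nat.card_zpowers]
  exact S.orderOf_tt.ge

theorem pCore_eq : Cfsg.pCore 2 ↥(centralizer ({t} : Set G)) = S.Q := by
  haveI : Fact (Nat.Prime 2) := ⟨Nat.prime_two⟩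
  haveI := S.nQ
  have hQ : S.Q ≤ Cfsg.pCore 2 ↥(centralizer ({t} : Set G)) := Cores.le_pCore (IsPGroup.of_card S.cardQ)
  have hO : IsPGroup 2 (Cfsg.pCore 2 ↥(centralizer ({t} : Set G))) := Cores.pCore_isPGroup
  set R := (Cfsg.pCore 2 ↥(centralizer ({t} : Set G))).map S.π with hR
  haveI : R.Normal := Subgroup.Normal.map inferInstance S.π S.surj
  have hR2 : IsPGroup 2 R := hO.map S.π
  haveI := simple_inn
  have hbot : R ⊓ inn = ⊥ := by
    rcases IsSimpleGroup.eq_bot_or_eq_top_of_normal (R.subgroupOf inn) inferInstance with h | h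
    · rw [eq_bot_iff]
      rintro x ⟨hxR, hxi⟩
      have : (⟨x, hxi⟩ : inn) ∈ R.subgroupOf inn := hxR
      rw [h, mem_bot] at this
      exact mem_bot.2 (congrArg Subtype.val this)
    · exfalso
      obtain ⟨k, hk⟩ := IsPGroup.iff_card.1 hR2
      have hd := Subgroup.card_dvd_of_le (Subgroup.subgroupOf_eq_top.1 h)
      rw [hk, card_inn] at hd
      obtain ⟨j, -, hj⟩ := (Nat.dvd_prime_pow Nat.prime_two).1 hd
      have h3 : 3 ∣ 2 ^ j := hj ▸ (by norm_num)
      exact absurd (Nat.prime_three.dvd_of_dvd_pow h3) (by norm_num)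
  have hle : Cfsg.pCore 2 ↥(centralizer ({t} : Set G)) ≤ S.N := by
    intro x hx
    rw [← S.ker, MonoidHom.mem_ker]
    refine MulEquiv.ext fun m => ?_
    have hconj : MulAut.conj (S.π x m) = S.π x * MulAut.conj m * (S.π x)⁻¹ := by
      ext y
      simp [MulAut.conj_apply, MulAut.mul_apply]
    have h1 : S.π x * MulAut.conj m * (S.π x)⁻¹ * (MulAut.conj m)⁻¹ ∈ R ⊓ inn := by
      refine ⟨?_, ?_⟩
      · rw [mul_assoc _ (S.π x)⁻¹, mul_assoc]
        refine mul_mem ⟨x, hx, rfl⟩ ?_
        rw [← mul_assoc]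
        exact (inferInstance : R.Normal).conj_mem _ (R.inv_mem (Subgroup.mem_map.2 ⟨x, hx, rfl⟩)) _
      · rw [← hconj]
        exact inn.mul_mem ⟨_, rfl⟩ (inn.inv_mem ⟨m, rfl⟩)
    rw [hbot, mem_bot, mul_inv_eq_one, ← hconj] at h1
    exact conj_injective h1
  obtain ⟨k, hk⟩ := IsPGroup.iff_card.1 hO
  have hd := Subgroup.card_dvd_of_le hle
  rw [hk, S.card_N] at hd
  have h13 : 2 ^ k ∣ 2 ^ 13 :=
    (Nat.Coprime.pow_left k (by norm_num : Nat.Coprime 2 3)).dvd_of_dvd_mul_left hd
  exact (Subgroup.eq_of_le_of_card_ge hQ (by rw [hk, S.cardQ]; exact Nat.le_of_dvd (by norm_num) h13)).symm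

end Setting

end Cfsg.Agent.H95.J4Bridge
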