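import Mathlib

/-!
# A perfect group with a central element of order three on a space of dimension 12 over `F₂`

If a perfect group `X` acts on a space `V` of order `2 ^ 12`, the central element `p` of order 3 acts
non-trivially and the normal subgroup generated by some element of order 11 is the whole group, then `p` has
no fixed vector: on `[V, p]`, a space over `F₄`, the determinant of `p` is 1 and an element of order 11 moves
something.
-/

set_option autoImplicit false

namespace Cfsg.Agent.H95.J4Bridge

open Polynomial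

local notation "f4" => (X ^ 2 + X + 1 : (ZMod 2)[X])

lemma monic_four : (f4).Monic := by monicity!

lemma natDegree_four : (f4).natDegree = 2 := by compute_degree!

lemma irreducible_four : Irreducible f4 := by
  rw [irreducible_iff_roots_eq_zero_of_degree_le_three (by rw [natDegree_four])
    (by rw [natDegree_four]; norm_num), Multiset.eq_zero_iff_forall_notMem]
  intro a ha
  have h := (mem_roots'.1 ha).2
  simp only [IsRoot.def, eval_add, eval_pow, eval_X, eval_one] at h
  have key : ∀ b : ZMod 2, b ^ 2 + b + 1 ≠ 0 := by decide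
  exact key a h

noncomputable instance fact_irreducible_four : Fact (Irreducible f4) := ⟨irreducible_four⟩

lemma card_four : Nat.card (AdjoinRoot f4) = 4 := by
  haveI : Module.Finite (ZMod 2) (AdjoinRoot f4) := monic_four.finite_adjoinRoot
  rw [Module.natCard_eq_pow_finrank (K := ZMod 2),
    (AdjoinRoot.powerBasis monic_four.ne_zero).finrank, AdjoinRoot.powerBasis_dim, natDegree_four]
  simp

lemma root_four : (AdjoinRoot.root f4) ^ 2 + AdjoinRoot.root f4 + 1 = 0 := by
  have h := AdjoinRoot.eval₂_root f4
  simpa [eval₂_add, eval₂_pow, eval₂_X, eval₂_one] using h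

lemma three_dvd_of_root_pow {k : ℕ} (h : (AdjoinRoot.root f4) ^ k = 1) : 3 ∣ k := by
  set w := AdjoinRoot.root f4 with hw
  have h2 : (2 : AdjoinRoot f4) = 0 := by
    have : (2 : ZMod 2) = 0 := by decide
    rw [← map_ofNat (AdjoinRoot.of f4) 2, this, map_zero]
  have h3 : w ^ 3 = 1 := by linear_combination (w - 1) * root_four
  have h1 : w ≠ 1 := fun e => by
    have := root_four
    rw [← hw, e] at this
    exact one_ne_zero (α := AdjoinRoot f4) (by linear_combination this - h2)
  haveI : Fact (Nat.Prime 3) := ⟨Nat.prime_three⟩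
  rw [← orderOf_eq_prime h3 h1]
  exact orderOf_dvd_of_pow_eq_one h

variable {X₀ : Type*} [Group X₀] {V : Type*} [AddCommGroup V] [Module (ZMod 2) V] [Finite V]

theorem small_four {k i : ℕ} (hk : k ≤ 4) (hi : i ≤ 2 * k) (h : 2 ^ i % 11 = 4 ^ k % 11) : i = 2 * k := by
  interval_cases k <;> interval_cases i <;> simp_all

/-- The conclusion for the space over four elements cut out by `p`. -/
theorem finrank_four {U : Type*} [AddCommGroup U] [Module (ZMod 2) U] [Finite U]
    (σ : X₀ →* Module.End (ZMod 2) U) (hX : commutator X₀ = ⊤) (p : X₀) (hcent : ∀ g, g * p = p * g)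
    (hT : σ p * σ p + σ p + 1 = 0) :
    ∃ k, Nat.card U = 4 ^ k ∧ 3 ∣ k ∧ (k ≤ 4 → ∀ y : X₀, y ^ 11 = 1 → σ y = 1) := by
  classical
  let φ₀ : (ZMod 2)[X] →+* Module.End (ZMod 2) U := (aeval (σ p)).toRingHom
  have hφ : ∀ a ∈ Ideal.span ({f4} : Set (ZMod 2)[X]), φ₀ a = 0 := by
    intro a ha
    obtain ⟨b, rfl⟩ := Ideal.mem_span_singleton.1 ha
    rw [map_mul]
    have : φ₀ f4 = 0 := by
      show aeval (σ p) f4 = 0
      simp only [map_add, map_pow, aeval_X, map_one]
      rw [sq]; exact hT
    rw [this, zero_mul]
  let φ : AdjoinRoot f4 →+* Module.End (ZMod 2) U := Ideal.Quotient.lift _ φ₀ hφ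
  letI : Module (AdjoinRoot f4) U := Module.compHom U φ
  haveI : Module.Finite (AdjoinRoot f4) U := Module.Finite.of_finite
  have hcomm : ∀ (g : X₀) (a : AdjoinRoot f4) (u : U), σ g (a • u) = a • σ g u := by
    intro g a u
    obtain ⟨q, rfl⟩ := Ideal.Quotient.mk_surjective a
    show σ g (φ₀ q u) = φ₀ q (σ g u)
    have hc : Commute (σ g) (φ₀ q) := by
      show Commute (σ g) (aeval (σ p) q)
      have hc0 : Commute (σ g) (σ p) := by
        show σ g * σ p = σ p * σ g
        rw [← map_mul, ← map_mul, hcent]
      induction q using Polynomial.induction_on with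
      | C a => rw [aeval_C]; exact (Algebra.commutes _ _).symm
      | add a b ha hb => rw [map_add]; exact ha.add_right hb
      | monomial n a _ =>
        rw [map_mul, aeval_C, map_pow, aeval_X]
        exact (Algebra.commute_algebraMap_right a (σ g)).mul_right (hc0.pow_right _)
    exact LinearMap.congr_fun hc.eq u
  let σK : X₀ →* Module.End (AdjoinRoot f4) U :=
    { toFun := fun g => { toFun := σ g, map_add' := map_add _, map_smul' := hcomm g }
      map_one' := LinearMap.ext fun u => by
        show σ 1 u = u
        rw [map_one]; rfl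
      map_mul' := fun g h => LinearMap.ext fun u => by
        show σ (g * h) u = σ g (σ h u)
        rw [map_mul]; rfl }
  refine ⟨Module.finrank (AdjoinRoot f4) U, ?_, ?_, ?_⟩
  · rw [Module.natCard_eq_pow_finrank (K := AdjoinRoot f4), card_four]
  · have h1 : LinearMap.det (σK p) = 1 := by
      let δ : X₀ →* (AdjoinRoot f4)ˣ := ((LinearMap.det).comp σK).toHomUnits
      have : δ p = 1 := MonoidHom.mem_ker.1
        (Abelianization.commutator_subset_ker δ (by rw [hX]; exact Subgroup.mem_top p))
      exact congrArg Units.val this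
    have h2 : σK p = AdjoinRoot.root f4 • (1 : Module.End (AdjoinRoot f4) U) := LinearMap.ext fun u => by
      show σ p u = φ₀ X u
      show σ p u = aeval (σ p) X u
      rw [aeval_X]
    rw [h2, LinearMap.det_smul, Module.End.one_eq_id, LinearMap.det_id, mul_one] at h1
    exact three_dvd_of_root_pow h1
  · intro hk y hy
    set k := Module.finrank (AdjoinRoot f4) U with hkdef
    have hcard : Nat.card U = 4 ^ k := by
      rw [Module.natCard_eq_pow_finrank (K := AdjoinRoot f4), card_four]
    have hinv : ∀ u, (σ y ^ 11) u = u := fun u => by rw [← map_pow, hy, map_one]; rfl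
    let f : Function.End U := fun u => σ y u
    have hf : ∀ (n : ℕ), f ^ n = fun u => σ (y ^ n) u := by
      intro n
      induction n with
      | zero => funext u; rw [pow_zero, pow_zero, map_one]; rfl
      | succ n ih =>
        funext u
        rw [pow_succ, pow_succ, ih, map_mul]; rfl
    have he11 : f ^ 11 ^ 1 = 1 := by
      rw [pow_one, hf, hy, map_one]; rfl
    letI : Fintype U := Fintype.ofFinite U
    haveI : Fact (Nat.Prime 11) := ⟨by norm_num⟩
    have hmod := Equiv.Perm.card_fixedPoints_modEq he11
    let W : Submodule (ZMod 2) U := LinearMap.ker (σ y - 1)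
    have hW : ∀ u, u ∈ W ↔ σ y u = u := fun u => by
      simp [W, LinearMap.mem_ker, sub_eq_zero]
    have hWc : Fintype.card (Function.fixedPoints f) = Nat.card W := by
      rw [← Nat.card_eq_fintype_card]
      exact Nat.card_congr (Equiv.subtypeEquivRight fun u => (hW u).symm)
    have hWp : Nat.card W = 2 ^ Module.finrank (ZMod 2) W := by
      rw [Module.natCard_eq_pow_finrank (K := ZMod 2), Nat.card_zmod]
    have hle : Module.finrank (ZMod 2) W ≤ 2 * k := by
      have : Nat.card W ≤ Nat.card U := Nat.card_le_card_of_injective _ W.subtype_injective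
      rw [hWp, hcard, show (4 : ℕ) = 2 ^ 2 by norm_num, ← pow_mul] at this
      exact (Nat.pow_le_pow_iff_right (by norm_num)).1 this
    rw [hWc, hWp, ← Nat.card_eq_fintype_card, hcard] at hmod
    have hi := small_four hk hle hmod.symm
    have htop : W = ⊤ := by
      refine Submodule.eq_top_of_finrank_eq ?_
      have : Nat.card U = 2 ^ Module.finrank (ZMod 2) U := by
        rw [Module.natCard_eq_pow_finrank (K := ZMod 2), Nat.card_zmod]
      rw [hcard, show (4 : ℕ) = 2 ^ 2 by norm_num, ← pow_mul] at this
      rw [hi]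
      exact Nat.pow_right_injective le_rfl this
    exact LinearMap.ext fun u => (hW u).1 (htop ▸ Submodule.mem_top)

/-- `p` has no fixed vector. -/
theorem fix_eq_zero (hX : commutator X₀ = ⊤) (hV : Nat.card V = 2 ^ 12)
    (ρ : X₀ →* Module.End (ZMod 2) V) (p : X₀) (hp3 : p ^ 3 = 1) (hcent : ∀ g, g * p = p * g)
    (hp : ρ p ≠ 1) (y : X₀) (hy : y ^ 11 = 1)
    (hgen : ∀ K : Subgroup X₀, K.Normal → y ∈ K → K = ⊤) : ∀ v, ρ p v = v → v = 0 := by
  classical
  set T := ρ p with hTdef
  have hT3 : T * T * T = 1 := by rw [hTdef, ← map_mul, ← map_mul, ← pow_three', hp3, map_one]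
  have hc : ∀ g, ρ g * T = T * ρ g := fun g => by rw [hTdef, ← map_mul, ← map_mul, hcent]
  let U : Submodule (ZMod 2) V := LinearMap.ker (T * T + T + 1)
  have hinvU : ∀ g, ∀ u ∈ U, ρ g u ∈ U := by
    intro g u hu
    rw [LinearMap.mem_ker] at hu ⊢
    have e : (T * T + T + 1) * ρ g = ρ g * (T * T + T + 1) := by
      have h1 := hc g
      rw [mul_add, mul_add, add_mul, add_mul, mul_one, one_mul, ← mul_assoc, h1, mul_assoc T (ρ g),
        h1, ← mul_assoc]
    have := LinearMap.congr_fun e u
    simp only [Module.End.mul_apply] at this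
    rw [this, hu, map_zero]
  let σ : X₀ →* Module.End (ZMod 2) U :=
    { toFun := fun g => (ρ g).restrict (hinvU g)
      map_one' := LinearMap.ext fun u => Subtype.ext (by
        show ρ 1 (u : V) = u
        rw [map_one]; rfl)
      map_mul' := fun g h => LinearMap.ext fun u => Subtype.ext (by
        show ρ (g * h) (u : V) = ρ g (ρ h u)
        rw [map_mul]; rfl) }
  have hσT : σ p * σ p + σ p + 1 = 0 := LinearMap.ext fun u => Subtype.ext (by
    show T (T (u : V)) + T u + u = 0
    exact LinearMap.mem_ker.1 u.2)
  obtain ⟨k, hk, h3, hsmall⟩ := finrank_four σ hX p hcent hσT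
  have hk6 : k ≤ 6 := by
    have : Nat.card U ≤ Nat.card V := Nat.card_le_card_of_injective _ U.subtype_injective
    rw [hk, hV, show (2 : ℕ) ^ 12 = 4 ^ 6 by norm_num] at this
    exact (Nat.pow_le_pow_iff_right (by norm_num)).1 this
  have hk4 : ¬ k ≤ 4 := by
    intro hle
    have h1 : σ y = 1 := hsmall hle y hy
    have h2 : σ p = 1 := by
      have := hgen σ.ker inferInstance (MonoidHom.mem_ker.2 h1)
      exact MonoidHom.mem_ker.1 (this ▸ Subgroup.mem_top p)
    refine hp (LinearMap.ext fun v => ?_)
    have hu : T v + T (T v) ∈ U := by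
      rw [LinearMap.mem_ker]
      have e : ∀ w, T (T (T w)) = w := fun w => LinearMap.congr_fun hT3 w
      simp only [LinearMap.add_apply, Module.End.mul_apply, Module.End.one_apply, map_add, e]
      have h0 : ∀ w : V, w + w = 0 := fun w => ZModModule.add_self w
      calc _ = (v + v) + (T v + T v) + (T (T v) + T (T v)) := by abel
        _ = 0 := by simp only [h0, add_zero]
    have h4 : T (T v + T (T v)) = T v + T (T v) :=
      congrArg Subtype.val (LinearMap.congr_fun h2 ⟨_, hu⟩)
    rw [map_add, show T (T (T v)) = v from LinearMap.congr_fun hT3 v, add_comm (T (T v)) v] at h4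
    exact (add_right_cancel h4).symm
  have hk' : k = 6 := by
    obtain ⟨m, rfl⟩ := h3
    omega
  intro v hv
  have hUtop : U = ⊤ := by
    by_contra hne
    have hlt : Nat.card U < Nat.card V := by
      have hs : (U : Set V) ⊂ Set.univ := by
        rw [Set.ssubset_univ_iff]
        exact fun e => hne (SetLike.coe_injective (by simpa using e))
      have := Set.ncard_lt_ncard hs Set.finite_univ
      rwa [Set.ncard_univ, ← Nat.card_coe_set_eq] at this
    rw [hk, hV, hk'] at hlt
    norm_num at hlt
  have := LinearMap.mem_ker.1 (hUtop ▸ Submodule.mem_top : v ∈ U)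
  simp only [LinearMap.add_apply, Module.End.mul_apply, Module.End.one_apply] at this
  change T v = v at hv
  rw [hv, hv, ZModModule.add_self, zero_add] at this
  exact this

end Cfsg.Agent.H95.J4Bridge
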