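import Cfsg.Agent.H95.J4Bridge.Core

/-!
# The setting has Janko-four type
-/

set_option autoImplicit false

namespace Cfsg.Agent.H95.J4Bridge

open Subgroup
open scoped commutatorElement

universe u

variable {G : Type u} [Group G] [Finite G]

namespace Setting

variable {t : G} (S : Setting t)

theorem exists_three : ∃ p : ↥(centralizer ({t} : Set G)), p ∈ S.N ∧ orderOf p = 3 := by
  haveI : Fact (Nat.Prime 3) := ⟨Nat.prime_three⟩
  obtain ⟨⟨p, hp⟩, h⟩ := exists_prime_orderOf_dvd_card' (G := ↥S.N) 3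
    (by rw [S.card_N]; exact dvd_mul_right 3 _)
  exact ⟨p, hp, (Subgroup.orderOf_mk p hp).symm.trans h⟩

theorem inf_eq_bot {p : ↥(centralizer ({t} : Set G))} (hp : orderOf p = 3) :
    zpowers p ⊓ S.Q = ⊥ := by
  refine (Subgroup.disjoint_of_coprime_natCard ?_).eq_bot
  rw [Nat.card_zpowers, hp, S.cardQ]
  exact (Nat.Coprime.pow_right 13 (by norm_num))

theorem N_eq {p : ↥(centralizer ({t} : Set G))} (hpN : p ∈ S.N) (hp : orderOf p = 3) :
    zpowers p ⊔ S.Q = S.N := by
  refine Subgroup.eq_of_le_of_card_ge (sup_le (zpowers_le.2 hpN) S.hQN) ?_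
  have h1 : 2 ^ 13 ∣ Nat.card ↥(zpowers p ⊔ S.Q) := S.cardQ ▸ Subgroup.card_dvd_of_le le_sup_right
  have h2 : 3 ∣ Nat.card ↥(zpowers p ⊔ S.Q) := by
    have := Subgroup.card_dvd_of_le (le_sup_left : zpowers p ≤ zpowers p ⊔ S.Q)
    rwa [Nat.card_zpowers, hp] at this
  rw [S.card_N]
  exact Nat.le_of_dvd Nat.card_pos (Nat.Coprime.mul_dvd_of_dvd_of_dvd (by decide) h2 h1)

/-- Two subgroups of order three of `N` are conjugate by an element of `Q`. -/
theorem exists_conj {p p' : ↥(centralizer ({t} : Set G))} (hpN : p ∈ S.N) (hp : orderOf p = 3)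
    (hp'N : p' ∈ S.N) (hp' : orderOf p' = 3) : ∃ q ∈ S.Q, q * p' * q⁻¹ ∈ zpowers p := by
  haveI : Fact (Nat.Prime 3) := ⟨Nat.prime_three⟩
  haveI := S.nQ
  have hfac : (Nat.card ↥S.N).factorization 3 = 1 := by
    rw [S.card_N, Nat.factorization_mul (by norm_num) (by norm_num), Nat.factorization_pow]
    simp [Nat.prime_three.factorization, Nat.factorization_eq_zero_of_not_dvd]
  have mk : ∀ {x : ↥(centralizer ({t} : Set G))} (hx : x ∈ S.N), orderOf x = 3 →
      Nat.card (zpowers (⟨x, hx⟩ : ↥S.N)) = 3 ^ (Nat.card ↥S.N).factorization 3 := by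
    intro x hx ho
    rw [hfac, pow_one, Nat.card_zpowers, Subgroup.orderOf_mk, ho]
  obtain ⟨n, hn⟩ := MulAction.exists_smul_eq ↥S.N (Sylow.ofCard _ (mk hp'N hp'))
    (Sylow.ofCard _ (mk hpN hp))
  have hn' := congrArg Sylow.toSubgroup hn
  have hmem : n * (⟨p', hp'N⟩ : ↥S.N) * n⁻¹ ∈ zpowers (⟨p, hpN⟩ : ↥S.N) := by
    have : n * (⟨p', hp'N⟩ : ↥S.N) * n⁻¹ ∈
        ((n • Sylow.ofCard _ (mk hp'N hp') : Sylow 3 ↥S.N) : Subgroup ↥S.N) :=
      ⟨⟨p', hp'N⟩, mem_zpowers _, rfl⟩
    rwa [hn, Sylow.coe_ofCard] at this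
  obtain ⟨i, hi⟩ := mem_zpowers_iff.1 hmem
  have hi' : p ^ i = n * p' * (n : ↥(centralizer ({t} : Set G)))⁻¹ := by
    have := congrArg (S.N.subtype) hi
    rw [map_zpow] at this
    simpa using this
  obtain ⟨a, ha, b, hb, hab⟩ := mem_sup_of_normal_right.1 ((S.N_eq hpN hp).ge n.2)
  refine ⟨b, hb, ?_⟩
  have : b * p' * b⁻¹ = a⁻¹ * p ^ i * a := by rw [hi', ← hab]; group
  rw [this]
  exact mul_mem (mul_mem (inv_mem ha) (zpow_mem (mem_zpowers p) i)) ha

theorem cent_mem {m n : ↥(centralizer ({t} : Set G))} (hm : m ∈ S.M) (hn : n ∈ S.N) :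
    m * n * m⁻¹ * n⁻¹ ∈ S.Q := S.cent (commutator_mem_commutator hm hn)

/-- `M = C_M(p) Q`. -/
theorem exists_commute {p m : ↥(centralizer ({t} : Set G))} (hpN : p ∈ S.N) (hp : orderOf p = 3)
    (hm : m ∈ S.M) : ∃ q ∈ S.Q, Commute (q * m) p := by
  haveI := S.nQ
  haveI := S.nN
  obtain ⟨q, hq, h⟩ := S.exists_conj hpN hp (S.nN.conj_mem p hpN m)
    (by rw [← MulAut.conj_apply, MulEquiv.orderOf_eq, hp])
  refine ⟨q, hq, ?_⟩
  have hQ : q * (m * p * m⁻¹) * q⁻¹ * p⁻¹ ∈ S.Q := by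
    have h1 := S.cent_mem hm hpN
    have h2 : p * q⁻¹ * p⁻¹ ∈ S.Q := S.nQ.conj_mem _ (inv_mem hq) p
    have := mul_mem (mul_mem hq h1) h2
    convert this using 1
    group
  have h0 : q * (m * p * m⁻¹) * q⁻¹ * p⁻¹ ∈ zpowers p ⊓ S.Q :=
    ⟨(zpowers p).mul_mem h ((zpowers p).inv_mem (mem_zpowers p)), hQ⟩
  rw [S.inf_eq_bot hp, mem_bot, mul_inv_eq_one] at h0
  show q * m * p = p * (q * m)
  calc q * m * p = q * (m * p * m⁻¹) * q⁻¹ * (q * m) := by group
    _ = p * (q * m) := by rw [h0]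

theorem three_in_M {p : ↥(centralizer ({t} : Set G))} (hpN : p ∈ S.N) : p ∈ S.M := S.N_le_M hpN

/-- The elements of `Q` commuting with `p` are the powers of the involution. -/
theorem fixed {p : ↥(centralizer ({t} : Set G))} (hpN : p ∈ S.N) (hp : orderOf p = 3)
    {q : ↥(centralizer ({t} : Set G))} (hq : q ∈ S.Q) (hpq : p * q = q * p) : q ∈ zpowers S.tt := by
  classical
  haveI := S.nQ
  haveI := S.tt_normal
  haveI : Fact (Nat.Prime 11) := ⟨by norm_num⟩
  set mk := QuotientGroup.mk' (zpowers S.tt) with hmk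
  set Vb := S.Q.map mk with hVb
  haveI : Vb.Normal := Subgroup.Normal.map S.nQ mk (QuotientGroup.mk'_surjective _)
  have hcen : ∀ a : ↥S.Q, a ∈ center ↥S.Q → mk a = 1 := fun a ha =>
    (QuotientGroup.eq_one_iff _).2 (S.center_Q ▸ ⟨a, ha, rfl⟩)
  have hcomm : ∀ a ∈ S.Q, ∀ b ∈ S.Q, mk a * mk b = mk b * mk a := by
    intro a ha b hb
    have h := hcen _ (H46.es_comm_mem S.extra ⟨a, ha⟩ ⟨b, hb⟩)
    have h' : mk (a * b * a⁻¹ * b⁻¹) = 1 := h
    rw [map_mul, map_mul, map_mul, map_inv, map_inv, mul_inv_eq_one, mul_inv_eq_iff_eq_mul] at h'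
    exact h'
  letI : CommGroup ↥Vb :=
    { (inferInstance : Group ↥Vb) with
      mul_comm := fun x y => by
        obtain ⟨a, ha, ea⟩ := x.2
        obtain ⟨b, hb, eb⟩ := y.2
        refine Subtype.ext ?_
        show (x : _ ⧸ zpowers S.tt) * y = y * x
        rw [← ea, ← eb]; exact hcomm a ha b hb }
  have hsq : ∀ x : ↥Vb, x * x = 1 := fun x => by
    obtain ⟨a, ha, ea⟩ := x.2
    refine Subtype.ext ?_
    show (x : _ ⧸ zpowers S.tt) * x = 1
    rw [← ea, ← map_mul, ← sq]
    exact hcen _ (H46.es_sq_mem S.extra ⟨a, ha⟩)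
  letI : Module (ZMod 2) (Additive ↥Vb) := AddCommGroup.zmodModule (n := 2) fun x => by
    rw [two_nsmul]; exact hsq x.toMul
  let ρ₀ : ↥S.M →* Module.End (ZMod 2) (Additive ↥Vb) :=
    { toFun := fun g =>
        (MonoidHom.toAdditive (MulAut.conjNormal (H := Vb) (mk g)).toMonoidHom).toZModLinearMap 2
      map_one' := LinearMap.ext fun v => by
        show Additive.ofMul (MulAut.conjNormal (H := Vb) (mk 1) v.toMul) = v
        rw [map_one, map_one]; rfl
      map_mul' := fun g h => LinearMap.ext fun v => by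
        show Additive.ofMul (MulAut.conjNormal (H := Vb) (mk (g * h)) v.toMul) =
          Additive.ofMul (MulAut.conjNormal (H := Vb) (mk g) (MulAut.conjNormal (H := Vb) (mk h) v.toMul))
        rw [map_mul, map_mul]; rfl }
  have hρ : ∀ (g : ↥S.M) (a : ↥(centralizer ({t} : Set G))) (ha : a ∈ S.Q),
      ρ₀ g (Additive.ofMul ⟨mk a, mem_map_of_mem mk ha⟩) =
        Additive.ofMul ⟨mk (g * a * (g : ↥(centralizer ({t} : Set G)))⁻¹),
          mem_map_of_mem mk (S.nQ.conj_mem a ha g)⟩ := fun g a ha => by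
    apply Additive.toMul.injective
    refine Subtype.ext ?_
    show mk g * mk a * (mk g)⁻¹ = mk _
    rw [map_mul, map_mul, map_inv]
  haveI : (S.Q.subgroupOf S.M).Normal := inferInstance
  have hker : S.Q.subgroupOf S.M ≤ ρ₀.ker := fun g hg => by
    rw [MonoidHom.mem_ker]
    refine LinearMap.ext fun v => ?_
    obtain ⟨a, ha, ea⟩ := v.toMul.2
    have hv : v = Additive.ofMul ⟨mk a, mem_map_of_mem mk ha⟩ :=
      Additive.toMul.injective (Subtype.ext ea.symm)
    rw [hv, hρ g a ha]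
    refine congrArg Additive.ofMul (Subtype.ext ?_)
    show mk _ = mk a
    rw [map_mul, map_mul, map_inv, hcomm (g : ↥(centralizer ({t} : Set G))) hg a ha, mul_inv_cancel_right]
  let X₀ := ↥S.M ⧸ S.Q.subgroupOf S.M
  let mX : ↥S.M →* X₀ := QuotientGroup.mk' _
  have mX_eq : ∀ g : ↥S.M, mX g = 1 ↔ (g : ↥(centralizer ({t} : Set G))) ∈ S.Q := fun g =>
    QuotientGroup.eq_one_iff g
  let ρ : X₀ →* Module.End (ZMod 2) (Additive ↥Vb) := QuotientGroup.lift _ ρ₀ hker
  have hρmk : ∀ g, ρ (mX g) = ρ₀ g := fun g => rfl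
  have hX : commutator X₀ = ⊤ := by
    rw [eq_top_iff]
    intro x _
    obtain ⟨m, rfl⟩ := QuotientGroup.mk'_surjective _ x
    obtain ⟨d, hd, e, he, hde⟩ := mem_sup_of_normal_right.1 (S.perf m.2)
    rw [← map_subtype_commutator] at hd
    obtain ⟨d', hd', rfl⟩ := hd
    have hem : (e : ↥(centralizer ({t} : Set G))) ∈ S.M := S.N_le_M (S.hQN he)
    have : mX m = mX d' := by
      rw [show m = d' * ⟨e, hem⟩ from Subtype.ext hde.symm, map_mul, (mX_eq ⟨e, hem⟩).2 he, mul_one]
    show mX m ∈ _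
    rw [this, _root_.commutator_def]
    rw [_root_.commutator_def] at hd'
    exact commutator_mono le_top le_top ((map_commutator ⊤ ⊤ mX).le (mem_map_of_mem mX hd'))
  have hpM := S.three_in_M hpN
  have hcenN : ∀ (n : ↥S.M), (n : ↥(centralizer ({t} : Set G))) ∈ S.N → ∀ g : X₀, g * mX n = mX n * g := by
    intro n hn g
    obtain ⟨m, rfl⟩ := QuotientGroup.mk'_surjective _ g
    have := (mX_eq (m * n * m⁻¹ * n⁻¹)).2 (S.cent_mem m.2 hn)
    rw [map_mul, map_mul, map_mul, map_inv, map_inv, mul_inv_eq_one, mul_inv_eq_iff_eq_mul] at this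
    exact this
  have hp3 : mX ⟨p, hpM⟩ ^ 3 = 1 := by
    rw [← map_pow, show (⟨p, hpM⟩ : ↥S.M) ^ 3 = 1 from Subtype.ext (by
      show p ^ 3 = 1
      rw [← hp, pow_orderOf_eq_one]), map_one]
  have hQp : p ∉ S.Q := by
    intro hh
    have := S.inf_eq_bot hp ▸ (mem_inf.2 ⟨mem_zpowers p, hh⟩)
    rw [mem_bot] at this
    rw [this, orderOf_one] at hp
    omega
  have hne : ρ (mX ⟨p, hpM⟩) ≠ 1 := by
    rw [hρmk]
    intro h1
    refine hQp (S.self (mem_centralizer_iff.2 fun a ha => ?_))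
    have h2 := hρ ⟨p, hpM⟩ a ha
    rw [h1] at h2
    have h3 : mk a = mk (p * a * p⁻¹) := congrArg (fun v => (v.toMul : ↥Vb).1) h2
    rw [hmk, QuotientGroup.mk'_eq_mk'] at h3
    obtain ⟨z, hz, hza⟩ := h3
    have hzc : Commute p z := by
      obtain ⟨k, rfl⟩ := mem_zpowers_iff.1 hz
      exact (Commute.zpow_right (S.tt_comm p) k)
    have hstep : p * a * p⁻¹ = a * z := hza.symm
    have hp3' : p ^ 3 = 1 := by rw [← hp, pow_orderOf_eq_one]
    have h4 : a * z ^ 3 = a := by
      have ez : p * z * p⁻¹ = z := by rw [hzc.eq, mul_inv_cancel_right]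
      have s2 : p * (a * z) * p⁻¹ = a * z * z := by
        rw [show p * (a * z) * p⁻¹ = (p * a * p⁻¹) * (p * z * p⁻¹) by group, hstep, ez]
      have s3 : p * (a * z * z) * p⁻¹ = a * z * z * z := by
        rw [show p * (a * z * z) * p⁻¹ = (p * (a * z) * p⁻¹) * (p * z * p⁻¹) by group, s2, ez]
      calc a * z ^ 3 = a * z * z * z := by rw [pow_three]; simp only [mul_assoc]
        _ = p * (p * (p * a * p⁻¹) * p⁻¹) * p⁻¹ := by rw [hstep, s2, s3]
        _ = p ^ 3 * a * (p ^ 3)⁻¹ := by rw [pow_three, mul_inv_rev, mul_inv_rev]; simp only [mul_assoc]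
        _ = a := by rw [hp3']; group
    have h5 : z = 1 := by
      have h6 : z ^ 3 = 1 := mul_left_cancel (h4.trans (mul_one a).symm)
      have h7 : orderOf z ∣ 2 := by
        have := orderOf_dvd_natCard (⟨z, hz⟩ : zpowers S.tt)
        rwa [Nat.card_zpowers, S.orderOf_tt, Subgroup.orderOf_mk] at this
      have h8 := Nat.dvd_gcd (orderOf_dvd_of_pow_eq_one h6) h7
      exact orderOf_eq_one_iff.1 (Nat.dvd_one.1 (by simpa using h8))
    rw [h5, mul_one] at hstep
    show a * p = p * a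
    calc a * p = (p * a * p⁻¹) * p := by rw [hstep]
      _ = p * a := by group
  have hMcard : 11 ∣ Nat.card ↥S.M := by
    have h1 : Nat.card inn ∣ Nat.card ↥S.M := by
      have : S.M.map S.π = inn := by
        rw [← S.comapM]; exact map_comap_eq_self_of_surjective S.surj _
      exact this ▸ Subgroup.card_map_dvd S.M S.π
    rw [card_inn] at h1
    exact (by norm_num : 11 ∣ 443520).trans h1
  obtain ⟨y, hy⟩ := exists_prime_orderOf_dvd_card' (G := ↥S.M) 11 hMcard
  have hyN : (y : ↥(centralizer ({t} : Set G))) ∉ S.N := by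
    intro h
    have := orderOf_dvd_natCard (⟨_, h⟩ : ↥S.N)
    rw [Subgroup.orderOf_mk, Subgroup.orderOf_coe, hy, S.card_N] at this
    norm_num at this
  have hgen : ∀ K : Subgroup X₀, K.Normal → mX y ∈ K → K = ⊤ := by
    intro K hK hyK
    let f : ↥S.M →* inn := (S.π.comp S.M.subtype).codRestrict inn fun g =>
      mem_comap.1 (S.comapM.ge g.2)
    have hf : Function.Surjective f := fun i => by
      obtain ⟨c, hc⟩ := S.surj i
      exact ⟨⟨c, S.comapM.le (mem_comap.2 (by rw [hc]; exact i.2))⟩, Subtype.ext hc⟩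
    haveI : (K.comap mX).Normal := hK.comap mX
    haveI : ((K.comap mX).map f).Normal := Subgroup.Normal.map inferInstance f hf
    haveI := simple_inn
    have hfy : f y ≠ 1 := fun e => hyN (S.ker.le (MonoidHom.mem_ker.2 (congrArg Subtype.val e)))
    have htop : (K.comap mX).map f = ⊤ :=
      (IsSimpleGroup.eq_bot_or_eq_top_of_normal _ inferInstance).resolve_left fun e =>
        hfy (mem_bot.1 (e ▸ mem_map_of_mem f (show y ∈ K.comap mX from hyK)))
    have hdec : ∀ g : X₀, ∃ k ∈ K, ∃ n : ↥S.M, (n : ↥(centralizer ({t} : Set G))) ∈ S.N ∧ g = k * mX n := by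
      intro g
      obtain ⟨m, rfl⟩ := QuotientGroup.mk'_surjective _ g
      obtain ⟨k, hk, e⟩ := mem_map.1 (htop.ge (mem_top (f m)))
      refine ⟨mX k, hk, k⁻¹ * m, S.ker.le (MonoidHom.mem_ker.2 ?_), ?_⟩
      · have h0 : f (k⁻¹ * m) = 1 := by rw [map_mul, map_inv, e, inv_mul_cancel]
        exact congrArg Subtype.val h0
      · rw [← map_mul, mul_inv_cancel_left]
    rw [eq_top_iff, ← hX, _root_.commutator_def, commutator_le]
    intro a _ b _
    obtain ⟨k₁, hk₁, n₁, hn₁, rfl⟩ := hdec a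
    obtain ⟨k₂, hk₂, n₂, hn₂, rfl⟩ := hdec b
    haveI := hK
    rw [← QuotientGroup.eq_one_iff, ← QuotientGroup.mk'_apply, map_commutatorElement,
      commutatorElement_eq_one_iff_commute]
    simp only [map_mul, QuotientGroup.mk'_apply, (QuotientGroup.eq_one_iff k₁).2 hk₁,
      (QuotientGroup.eq_one_iff k₂).2 hk₂, one_mul]
    exact (Commute.map (hcenN n₁ hn₁ (mX n₂)) (QuotientGroup.mk' K)).symm
  have hVcard : Nat.card (Additive ↥Vb) = 2 ^ 12 := by
    have h1 := Subgroup.card_mul_index ((zpowers S.tt).subgroupOf S.Q)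
    have e1 : Nat.card ((zpowers S.tt).subgroupOf S.Q) = 2 := by
      rw [Nat.card_congr (Subgroup.subgroupOfEquivOfLe (zpowers_le.2 S.tt_mem)).toEquiv,
        Nat.card_zpowers, S.orderOf_tt]
    have e2 : ((zpowers S.tt).subgroupOf S.Q).index = Nat.card ↥Vb := by
      have h0 := Subgroup.index_ker (mk.domRestrict S.Q)
      rwa [MonoidHom.ker_domRestrict, MonoidHom.domRestrict_range, hmk, QuotientGroup.ker_mk'] at h0
    rw [e1, e2, S.cardQ] at h1
    show Nat.card ↥Vb = 2 ^ 12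
    omega
  have hfix := fix_eq_zero hX hVcard ρ (mX ⟨p, hpM⟩) hp3 (hcenN ⟨p, hpM⟩ hpN) hne (mX y)
    (by rw [← map_pow, show y ^ 11 = 1 by rw [← hy]; exact pow_orderOf_eq_one y, map_one]) hgen
    (Additive.ofMul ⟨mk q, mem_map_of_mem mk hq⟩) (by
      rw [hρmk, hρ _ q hq]
      refine congrArg Additive.ofMul (Subtype.ext ?_)
      show mk _ = mk q
      rw [hpq, mul_inv_cancel_right])
  have := congrArg (fun v => (v.toMul : ↥Vb).1) hfix
  exact (QuotientGroup.eq_one_iff q).1 this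

/-- Some element of the centraliser inverts `p` modulo `Q`. -/
theorem exists_moved {p : ↥(centralizer ({t} : Set G))} (hpN : p ∈ S.N) (hp : orderOf p = 3) :
    ∃ c : ↥(centralizer ({t} : Set G)), c * p * c⁻¹ * p⁻¹ ∉ S.Q := by
  by_contra hall
  push Not at hall
  haveI := S.nQ
  have hkerQ : S.Q ≤ S.π.ker := S.hQN.trans S.ker.ge
  let π' := QuotientGroup.lift S.Q S.π hkerQ
  let q' := QuotientGroup.mk' S.Q
  have hsurj : Function.Surjective π' := fun a => by
    obtain ⟨c, rfl⟩ := S.surj a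
    exact ⟨q' c, rfl⟩
  have hker : π'.ker = zpowers (q' p) := by
    show (QuotientGroup.lift S.Q S.π hkerQ).ker = _
    rw [QuotientGroup.ker_lift, S.ker, ← S.N_eq hpN hp, Subgroup.map_sup, MonoidHom.map_zpowers,
      QuotientGroup.map_mk'_self, sup_bot_eq]
  have hp1 : q' p ≠ 1 := fun e => by
    have := S.inf_eq_bot hp ▸ (mem_inf.2 ⟨mem_zpowers p, (QuotientGroup.eq_one_iff p).1 e⟩)
    rw [mem_bot] at this
    rw [this, orderOf_one] at hp
    omega
  have hcen : q' p ∈ center _ := mem_center_iff.2 fun x => by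
    obtain ⟨c, rfl⟩ := QuotientGroup.mk'_surjective _ x
    have := (QuotientGroup.eq_one_iff _).2 (hall c)
    change q' (c * p * c⁻¹ * p⁻¹) = 1 at this
    rw [map_mul, map_mul, map_mul, map_inv, map_inv, mul_inv_eq_one, mul_inv_eq_iff_eq_mul] at this
    exact this
  have hcomm : q' p ∈ commutator _ := by
    obtain ⟨d, hd, e, he, hde⟩ := mem_sup_of_normal_right.1 (S.perf (S.three_in_M hpN))
    rw [← hde, map_mul, (QuotientGroup.eq_one_iff e).2 he |> fun h => (show q' e = 1 from h), mul_one,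
      _root_.commutator_def]
    exact commutator_mono le_top le_top ((map_commutator S.M S.M q').le (mem_map_of_mem q' hd))
  haveI : Finite (MulAut ↥Spor.M22) := Finite.of_injective _ DFunLike.coe_injective
  have h27 : ¬ 27 ∣ Nat.card (MulAut ↥Spor.M22) := by
    rw [H85.AutM22.autData.card]; norm_num
  obtain ⟨x, y, g, hx1, hx, hy, hxy, hne, hgx, hgy⟩ := exists_reflection
  exact false_of_reflection π' hsurj (q' p) hker
    (by rw [← map_pow, ← hp, pow_orderOf_eq_one, map_one]) hp1 hcen hcomm h27 x y g hx hy hxy hne hx1 hgx hgy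

/-- The setting gives Janko-four type. -/
theorem isOfJankoFourTypeAt (S : Setting t) : Cfsg.IsOfJankoFourTypeAt t := by
  haveI := S.nQ
  haveI := S.nN
  obtain ⟨p, hpN, hp⟩ := S.exists_three
  let C := centralizer ({t} : Set G)
  have htwo : Cfsg.twoCoreOfCentralizer t = S.Q.map C.subtype := by
    rw [← S.pCore_eq]; rfl
  refine ⟨(zpowers p).map C.subtype, S.ord, ?_, ?_, ?_, ⟨S.N.map C.subtype, ?_, map_subtype_le _, ?_, ?_, ?_, ?_⟩,
    ?_, ?_, ?_, ?_⟩
  · rw [htwo]
    exact H92.isExtraspecial_of_mulEquiv (equivMapOfInjective _ _ (subtype_injective _)) S.extra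
  · rw [htwo, card_map_of_injective (subtype_injective _), S.cardQ]
  · rw [htwo]
    rintro h ⟨hh, hc⟩
    refine ⟨⟨h, hh⟩, S.self (mem_centralizer_iff.2 fun q hq => Subtype.ext ?_), rfl⟩
    exact mem_centralizer_iff.1 hc q ⟨q, hq, rfl⟩
  · rw [htwo]; exact map_mono S.hQN
  · intro c hc
    refine mem_normalizer_iff.2 fun x => ?_
    constructor
    · rintro ⟨n, hn, rfl⟩
      exact ⟨⟨c, hc⟩ * n * ⟨c, hc⟩⁻¹, S.nN.conj_mem n hn _, rfl⟩
    · rintro ⟨n, hn, e⟩
      refine ⟨(⟨c, hc⟩ : C)⁻¹ * n * ⟨c, hc⟩, S.nN.conj_mem' n hn _, ?_⟩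
      show c⁻¹ * (n : G) * c = x
      change (n : G) = _ at e
      rw [e]; group
  · rw [htwo, card_map_of_injective (subtype_injective _), card_map_of_injective (subtype_injective _),
      S.cardN]
  · have hsub : (S.N.map C.subtype).subgroupOf C = S.N := comap_map_eq_self_of_injective (subtype_injective _) S.N
    haveI hn : ((S.N.map C.subtype).subgroupOf C).Normal := by rw [hsub]; exact S.nN
    refine ⟨hn, ⟨(QuotientGroup.quotientMulEquivOfEq hsub).trans
      ((QuotientGroup.quotientMulEquivOfEq S.ker.symm).trans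
        (QuotientGroup.quotientKerEquivOfSurjective S.π S.surj))⟩⟩
  · exact map_mono (zpowers_le.2 hpN)
  · rw [card_map_of_injective (subtype_injective _), Nat.card_zpowers, hp]
  · rw [htwo]
    apply le_antisymm
    · rintro x ⟨⟨q, hq, rfl⟩, hc⟩
      have := S.fixed hpN hp hq (Subtype.ext (mem_centralizer_iff.1 hc p ⟨p, mem_zpowers p, rfl⟩))
      obtain ⟨k, hk⟩ := mem_zpowers_iff.1 this
      exact mem_zpowers_iff.2 ⟨k, by rw [← hk, map_zpow]; rfl⟩
    · rw [zpowers_le]
      refine ⟨⟨S.tt, S.tt_mem, rfl⟩, mem_centralizer_iff.2 ?_⟩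
      rintro _ ⟨x, -, rfl⟩
      exact congrArg Subtype.val (S.tt_comm x)
  · intro heq
    obtain ⟨c, hc⟩ := S.exists_moved hpN hp
    obtain ⟨q, hq, hqc⟩ := S.exists_conj hpN hp (S.nN.conj_mem p hpN c)
      (by rw [← MulAut.conj_apply, MulEquiv.orderOf_eq, hp])
    set w := q * c with hw
    have hwn : w * p * w⁻¹ ∈ zpowers p := by
      rw [show w * p * w⁻¹ = q * (c * p * c⁻¹) * q⁻¹ by rw [hw]; group]
      exact hqc
    have hmap : (zpowers p).map (MulAut.conj w).toMonoidHom = zpowers p := by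
      rw [MonoidHom.map_zpowers]
      refine Subgroup.eq_of_le_of_card_ge (zpowers_le.2 hwn) ?_
      rw [Nat.card_zpowers, Nat.card_zpowers]
      exact (MulEquiv.orderOf_eq (MulAut.conj w) p).ge
    have hmem : (w : G) ∈ centralizer ({t} : Set G) ⊓ normalizer (((zpowers p).map C.subtype : Subgroup G) : Set G) := by
      refine ⟨w.2, mem_normalizer_iff.2 fun x => ?_⟩
      constructor
      · rintro ⟨n, hn, rfl⟩
        exact ⟨w * n * w⁻¹, hmap.le (mem_map_of_mem _ hn), rfl⟩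
      · rintro ⟨n, hn, e⟩
        obtain ⟨n', hn', e'⟩ := hmap.ge hn
        refine ⟨n', hn', ?_⟩
        rw [← e'] at e
        change (w : G) * n' * (w : G)⁻¹ = (w : G) * x * (w : G)⁻¹ at e
        exact mul_left_cancel (mul_right_cancel e)
    rw [heq] at hmem
    have hwp : p * w = w * p := Subtype.ext (mem_centralizer_iff.1 hmem.2 p ⟨p, mem_zpowers p, rfl⟩)
    apply hc
    have e : c * p * c⁻¹ * p⁻¹ = q⁻¹ * (p * q * p⁻¹) := by
      have h1 : c * p * c⁻¹ = q⁻¹ * (w * p * w⁻¹) * q := by rw [hw]; group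
      rw [h1, ← hwp]
      group
    rw [e]
    exact mul_mem (inv_mem hq) (S.nQ.conj_mem q hq p)
  · set D : Subgroup C := S.M ⊓ centralizer {p} with hD
    have hMD : S.M ≤ D ⊔ S.Q := by
      intro m hm
      obtain ⟨q, hq, hc⟩ := S.exists_commute hpN hp hm
      have hd : q * m ∈ D := ⟨mul_mem (S.N_le_M (S.hQN hq)) hm,
        mem_centralizer_iff.2 fun x hx => by rw [Set.mem_singleton_iff.1 hx]; exact hc.eq.symm⟩
      have := mul_mem (mem_sup_right (inv_mem hq) : q⁻¹ ∈ D ⊔ S.Q) (mem_sup_left hd)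
      rwa [inv_mul_cancel_left] at this
    have hcomm : ⁅S.M, S.M⁆ ≤ ⁅D, D⁆ ⊔ S.Q := by
      refine (le_comap_map (QuotientGroup.mk' S.Q) _).trans ?_
      have h1 : S.M.map (QuotientGroup.mk' S.Q) ≤ D.map (QuotientGroup.mk' S.Q) := by
        refine (map_mono hMD).trans ?_
        rw [Subgroup.map_sup, QuotientGroup.map_mk'_self, sup_bot_eq]
      rw [map_commutator]
      refine (comap_mono ((commutator_mono h1 h1).trans (map_commutator D D _).ge)).trans ?_
      rw [comap_map_eq, QuotientGroup.ker_mk']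
    have hpDQ : p ∈ ⁅D, D⁆ ⊔ S.Q :=
      (S.perf.trans (sup_le hcomm le_sup_right)) (S.three_in_M hpN)
    obtain ⟨d, hd, q, hq, hdq⟩ := mem_sup_of_normal_right.1 hpDQ
    have hdp : d ∈ centralizer ({p} : Set C) :=
      ((commutator_mono inf_le_right inf_le_right).trans (commutator_le.2 fun a ha b hb => by
        rw [commutatorElement_def]
        exact mul_mem (mul_mem (mul_mem ha hb) (inv_mem ha)) (inv_mem hb))) hd
    have hdp' : p * d = d * p := mem_centralizer_iff.1 hdp p rfl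
    have hqp : p * q = q * p := by
      have e : q = d⁻¹ * p := by rw [← hdq]; group
      rw [e]
      calc p * (d⁻¹ * p) = d⁻¹ * (d * p) * d⁻¹ * p := by group
        _ = d⁻¹ * p * p := by rw [← hdp']; group
    have hq2 : q ^ 2 = 1 := by
      obtain ⟨k, rfl⟩ := mem_zpowers_iff.1 (S.fixed hpN hp hq hqp)
      rw [← zpow_natCast, ← zpow_mul, mul_comm, zpow_mul, zpow_natCast, ← S.orderOf_tt, pow_orderOf_eq_one,
        one_zpow]
    have hpd : p = d ^ 4 := by
      have hdq' : Commute d q := by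
        have e : q = d⁻¹ * p := by rw [← hdq]; group
        rw [e]
        exact ((Commute.refl d).inv_right).mul_right (show Commute d p from hdp'.symm)
      have h4 : p ^ 4 = d ^ 4 * q ^ 4 := by rw [← hdq, hdq'.mul_pow]
      have hp3' : p ^ 3 = 1 := by rw [← hp, pow_orderOf_eq_one]
      rw [pow_succ p 3, hp3', one_mul, pow_mul q 2 2, hq2, one_pow, mul_one] at h4
      exact h4
    have hDC : D.map C.subtype ≤ centralizer ({t} : Set G) ⊓ centralizer (((zpowers p).map C.subtype : Subgroup G) : Set G) := by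
      rintro _ ⟨x, hx, rfl⟩
      refine ⟨x.2, mem_centralizer_iff.2 ?_⟩
      rintro _ ⟨r, hr, rfl⟩
      obtain ⟨k, rfl⟩ := mem_zpowers_iff.1 hr
      have hc : Commute p x := mem_centralizer_iff.1 hx.2 p rfl
      exact congrArg Subtype.val (hc.zpow_left k).eq
    rw [MonoidHom.map_zpowers, zpowers_le]
    have := mem_map_of_mem C.subtype (pow_mem hd 4)
    rw [← hpd, map_commutator] at this
    have hres := commutator_mono hDC hDC this
    rw [MonoidHom.map_zpowers] at hres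
    exact hres

end Setting

end Cfsg.Agent.H95.J4Bridge
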