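import Cfsg.Agent.H95.J4Bridge.Adapters
import Cfsg.Agent.H95.J4Bridge.TwoClasses
import Cfsg.Agent.S1703

/-!
# The characterisations by the involution centraliser, given uniqueness for Janko-four type
-/

set_option autoImplicit false

namespace Cfsg.Agent.H95.J4Bridge

open Subgroup

universe u

variable {G : Type u} [Group G] [Finite G]

/-- Uniqueness of groups of Janko-four type, as a hypothesis. -/
def UniqueType (G : Type u) [Group G] : Prop :=
  IsSimpleGroup G → ¬ IsMulCommutative G → ∀ z : G, Cfsg.IsOfJankoFourTypeAt z → Cfsg.Spor.IsoJ4 G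

/-- A group with an extraspecial subgroup is not commutative. -/
theorem not_comm_of_extra {t : G} (Q : Subgroup ↥(centralizer ({t} : Set G))) (hQ : Cfsg.IsExtraspecial 2 Q)
    (hcard : Nat.card Q = 2 ^ 13) : ¬ IsMulCommutative G := by
  intro h
  have htop : center ↥Q = ⊤ := eq_top_iff.2 fun a _ => mem_center_iff.2 fun b =>
    Subtype.ext (Subtype.ext (h.is_comm.comm _ _))
  have := hQ.2
  rw [htop, card_top, hcard] at this
  norm_num at this

theorem isJ4_of_isoJ4 (h : Cfsg.Spor.IsoJ4 G) : Cfsg.IsJ4 G := by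
  obtain ⟨e⟩ := h
  exact ⟨e.isSimpleGroup_congr.2 S1703.simple, (Nat.card_congr e.toEquiv).trans S1703.card⟩

theorem row1646 (huniq : UniqueType G) [hs : IsSimpleGroup G] (t : G) (ht : orderOf t = 2)
    (Q N M : Subgroup (centralizer ({t} : Set G))) [Q.Normal] [N.Normal] [M.Normal] (hQN : Q ≤ N) (hNM : N ≤ M)
    (hM : M.index = 2) (hQ : Cfsg.IsExtraspecial 2 Q) (hcard : Nat.card Q = 2 ^ 13)
    (hN : Nat.card N = 3 * Nat.card Q) (hcent : ⁅M, N⁆ ≤ Q) (hperf : M ≤ ⁅M, M⁆ ⊔ Q)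
    (h2c : centralizer (Q : Set (centralizer ({t} : Set G))) ≤ Q)
    (hout : ∀ c : centralizer ({t} : Set G), (∀ m ∈ M, c * m * c⁻¹ * m⁻¹ ∈ N) → c ∈ M)
    (hM22 : Cfsg.Spor.IsoM22 (M ⧸ N.subgroupOf M)) :
    (Cfsg.IsJ4 G ∧ ∃ x y : G, orderOf x = 2 ∧ orderOf y = 2 ∧ ¬ IsConj x y ∧
      ∀ z : G, orderOf z = 2 → IsConj z x ∨ IsConj z y) ∧ Cfsg.Spor.IsoJ4 G := by
  have hG := not_comm_of_extra Q hQ hcard
  have hJ := typeAt_of_explicit Q N M ht hQN hNM hM hQ hcard hN hcent hperf h2c hout hM22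
  exact ⟨⟨isJ4_of_isoJ4 (huniq hs hG t hJ), two_classes hG hJ⟩, huniq hs hG t hJ⟩

end Cfsg.Agent.H95.J4Bridge
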